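import Groth.Agent.DescLib.Reduced
import Groth.Prelude.Def_FlatCA
import Mathlib.RingTheory.Spectrum.Prime.Topology
import Mathlib.RingTheory.Smooth.Flat

/-! Algebra for changing the base of a dévissage. -/

universe u

set_option autoImplicit false
set_option backward.isDefEq.respectTransparency false
set_option backward.isDefEq.respectTransparency.types false
attribute [-instance] CategoryTheory.catToReflQuiver

open TensorProduct AlgebraicGeometry CategoryTheory

namespace Groth.Agent.FlatDevPad

theorem smooth_spec {R B : Type u} [CommRing R] [CommRing B] [Algebra R B] [Algebra.Smooth R B] :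
    Smooth (Spec.map (CommRingCat.ofHom (algebraMap R B))) :=
  (HasRingHomProperty.Spec_iff (P := @Smooth)).2 (RingHom.smooth_algebraMap.2 ‹_›)

theorem isDomain_of_smooth_geomIrred (k B : Type u) [Field k] [CommRing B] [Algebra k B]
    [Algebra.Smooth k B] [GeometricallyIrreducible (Spec.map (CommRingCat.ofHom (algebraMap k B)))] :
    IsDomain B := by
  haveI := smooth_spec (R := k) (B := B)
  haveI : _root_.IsReduced (CommRingCat.of k) := inferInstanceAs (_root_.IsReduced k)
  haveI : IsReduced (Spec (CommRingCat.of k)) := inferInstance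
  haveI : IsReduced (Spec (CommRingCat.of B)) :=
    DescLib.isReduced_of_smooth_of_isReduced (Spec.map (CommRingCat.ofHom (algebraMap k B)))
  haveI : _root_.IsReduced B := (affine_isReduced_iff (CommRingCat.of B)).1 inferInstance
  haveI : Subsingleton ↥(Spec (CommRingCat.of k)) := inferInstanceAs (Subsingleton (PrimeSpectrum k))
  haveI : Nonempty ↥(Spec (CommRingCat.of k)) := inferInstanceAs (Nonempty (PrimeSpectrum k))
  haveI := GeometricallyIrreducible.irreducibleSpace_of_subsingleton
    (Spec.map (CommRingCat.ofHom (algebraMap k B)))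
  have h : (nilradical B).IsPrime := PrimeSpectrum.irreducibleSpace_iff_isPrime_nilradical.1 ‹_›
  rw [show nilradical B = ⊥ from nilradical_eq_zero B] at h
  haveI := h
  exact IsDomain.of_bot_isPrime B

theorem ker_toFiber (R B : Type u) [CommRing R] [CommRing B] [Algebra R B] [Module.Flat R B]
    (p : Ideal R) [p.IsPrime] :
    RingHom.ker (Algebra.TensorProduct.includeRight (R := R) (A := p.ResidueField) (B := B)).toRingHom =
      p.map (algebraMap R B) := by
  let k := p.ResidueField
  let ι : B →+* p.Fiber B := (Algebra.TensorProduct.includeRight (R := R) (A := k) (B := B)).toRingHom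
  show RingHom.ker ι = _
  refine le_antisymm (fun b hb => ?_) ?_
  · let lft : (R ⧸ p) →ₐ[R] k := Ideal.Quotient.liftₐ p (Algebra.ofId R k) fun r hr =>
      Ideal.algebraMap_residueField_eq_zero.2 hr
    let j : (R ⧸ p) →ₗ[R] k := lft.toLinearMap
    have hj : Function.Injective j := by
      intro x y hxy
      obtain ⟨x, rfl⟩ := Ideal.Quotient.mk_surjective x
      obtain ⟨y, rfl⟩ := Ideal.Quotient.mk_surjective y
      have hxy : algebraMap R k x = algebraMap R k y := hxy
      rw [← sub_eq_zero, ← map_sub, Ideal.algebraMap_residueField_eq_zero] at hxy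
      exact Ideal.Quotient.eq.2 hxy
    have h1 : j.rTensor B ((1 : R ⧸ p) ⊗ₜ[R] b) = j.rTensor B 0 := by
      rw [map_zero, LinearMap.rTensor_tmul]
      show (j 1) ⊗ₜ[R] b = 0
      rw [show j 1 = (1 : k) from map_one lft]
      exact hb
    have h2 := Module.Flat.rTensor_preserves_injective_linearMap (M := B) j hj h1
    have h3 := congrArg (TensorProduct.quotTensorEquivQuotSMul B p) h2
    rw [map_zero, show (1 : R ⧸ p) = Ideal.Quotient.mk p 1 from rfl,
      TensorProduct.quotTensorEquivQuotSMul_mk_tmul, one_smul, Submodule.Quotient.mk_eq_zero] at h3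
    rw [Ideal.smul_top_eq_map] at h3
    exact h3
  · rw [Ideal.map_le_iff_le_comap]
    intro r hr
    show (1 : k) ⊗ₜ[R] algebraMap R B r = 0
    rw [Algebra.algebraMap_eq_smul_one, TensorProduct.tmul_smul, TensorProduct.smul_tmul',
      ← Algebra.algebraMap_eq_smul_one, Ideal.algebraMap_residueField_eq_zero.2 hr, TensorProduct.zero_tmul]

/-- The extension of a prime along a base change lies over the extension. -/
theorem map_liesOver (R R' B B' : Type u) [CommRing R] [CommRing R'] [Algebra R R'] [CommRing B] [CommRing B']
    [Algebra R B] [Algebra R' B'] [Algebra R B'] [Algebra B B'] [IsScalarTower R R' B'] [IsScalarTower R B B']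
    [Algebra.IsPushout R R' B B'] [Module.Flat R B]
    (p : Ideal R) [p.IsPrime] (p' : Ideal R') [p'.IsPrime] [hp : p'.LiesOver p] :
    (p'.map (algebraMap R' B')).LiesOver (p.map (algebraMap R B)) := by
  refine ⟨le_antisymm ?_ fun b hb => ?_⟩
  · rw [Ideal.map_le_iff_le_comap]
    intro r hr
    show algebraMap B B' (algebraMap R B r) ∈ p'.map (algebraMap R' B')
    rw [← IsScalarTower.algebraMap_apply, IsScalarTower.algebraMap_apply R R' B']
    exact Ideal.mem_map_of_mem _ (show algebraMap R R' r ∈ p' by rw [hp.over] at hr; exact hr)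
  · have h1 : (1 : p'.ResidueField) ⊗ₜ[R'] algebraMap B B' b = 0 := by
      have hle : p'.map (algebraMap R' B') ≤ RingHom.ker
          (Algebra.TensorProduct.includeRight (R := R') (A := p'.ResidueField) (B := B')).toRingHom := by
        rw [Ideal.map_le_iff_le_comap]
        intro r hr
        show (1 : p'.ResidueField) ⊗ₜ[R'] algebraMap R' B' r = 0
        rw [Algebra.algebraMap_eq_smul_one, TensorProduct.tmul_smul, TensorProduct.smul_tmul',
          ← Algebra.algebraMap_eq_smul_one, Ideal.algebraMap_residueField_eq_zero.2 hr, TensorProduct.zero_tmul]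
      exact hle hb
    let e := (TensorProduct.AlgebraTensorModule.congr (LinearEquiv.refl p'.ResidueField p'.ResidueField)
      (Algebra.IsPushout.equiv R R' B B').symm.toLinearEquiv).trans
      (TensorProduct.AlgebraTensorModule.cancelBaseChange R R' p'.ResidueField p'.ResidueField B)
    have h2 : e ((1 : p'.ResidueField) ⊗ₜ[R'] algebraMap B B' b) = (1 : p'.ResidueField) ⊗ₜ[R] b := by
      simp [e, Algebra.IsPushout.equiv_symm_algebraMap_right]
    rw [h1, map_zero] at h2
    let ψ : p.ResidueField →ₐ[R] p'.ResidueField := Ideal.ResidueField.mapₐ p p' (Algebra.ofId R R') hp.over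
    have h3 := Module.Flat.rTensor_preserves_injective_linearMap (M := B) ψ.toLinearMap ψ.toRingHom.injective
      (a₁ := (1 : p.ResidueField) ⊗ₜ[R] b) (a₂ := 0) (by
        rw [map_zero, LinearMap.rTensor_tmul]
        show ψ 1 ⊗ₜ[R] b = 0
        rw [map_one]
        exact h2.symm)
    rw [← ker_toFiber]
    exact h3

attribute [local instance] Algebra.TensorProduct.rightAlgebra in
/-- The extension of a prime to a smooth algebra with geometrically irreducible fibres is prime. -/
theorem isPrime_map (R B : Type u) [CommRing R] [CommRing B] [Algebra R B] [Algebra.Smooth R B]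
    (h : FlatCA.GeomIrredFibres R B) (p : Ideal R) [p.IsPrime] : (p.map (algebraMap R B)).IsPrime := by
  let k := p.ResidueField
  haveI : Algebra.Smooth k (p.Fiber B) := inferInstanceAs (Algebra.Smooth k (k ⊗[R] B))
  haveI : GeometricallyIrreducible (Spec.map (CommRingCat.ofHom (algebraMap k (p.Fiber B)))) := by
    have hp := isPullback_SpecMap_of_isPushout _ _ _ _
      (CommRingCat.isPushout_iff_isPushout.mpr
        (inferInstance : Algebra.IsPushout R B k (p.Fiber B)))
    exact MorphismProperty.of_isPullback (P := @GeometricallyIrreducible) hp h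
  haveI := isDomain_of_smooth_geomIrred k (p.Fiber B)
  rw [← ker_toFiber]
  exact RingHom.ker_isPrime _

/-- A bijective map on fibres at a prime stays bijective at a prime above it. -/
theorem bijective_baseChange_residueField {B B' M M' : Type u} [CommRing B] [CommRing B'] [Algebra B B']
    [AddCommGroup M] [Module B M] [AddCommGroup M'] [Module B' M'] [Module B M'] [IsScalarTower B B' M']
    (l : M →ₗ[B] M') (hl : IsBaseChange B' l) (r : ℕ) (α : (Fin r → B) →ₗ[B] M) (α' : (Fin r → B') →ₗ[B'] M')
    (hα : ∀ v : Fin r → B, α' (fun k => algebraMap B B' (v k)) = l (α v))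
    (P : Ideal B) [P.IsPrime] (P' : Ideal B') [P'.IsPrime] [hP : P'.LiesOver P]
    (h : Function.Bijective (α.baseChange P.ResidueField)) : Function.Bijective (α'.baseChange P'.ResidueField) := by
  let k := P.ResidueField
  let k' := P'.ResidueField
  letI : Algebra k k' := (Ideal.ResidueField.map P P' (algebraMap B B') hP.over).toAlgebra
  haveI : IsScalarTower B k k' := IsScalarTower.of_algebraMap_eq fun b => by
    show _ = Ideal.ResidueField.map P P' (algebraMap B B') hP.over (algebraMap B k b)
    rw [Ideal.ResidueField.map_algebraMap, ← IsScalarTower.algebraMap_apply]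
  let ιv : (Fin r → B) →ₗ[B] (Fin r → B') :=
    LinearMap.pi fun k => (Algebra.linearMap B B').comp (LinearMap.proj k)
  have hι : IsBaseChange B' ιv := by
    have := IsBaseChange.finitePow (Fin r) (IsBaseChange.linearMap B B')
    exact this
  let eF : k' ⊗[B'] (Fin r → B') ≃ₗ[k'] k' ⊗[k] (k ⊗[B] (Fin r → B)) :=
    (TensorProduct.AlgebraTensorModule.congr (LinearEquiv.refl k' k') hι.equiv.symm) ≪≫ₗ
      (TensorProduct.AlgebraTensorModule.cancelBaseChange B B' k' k' (Fin r → B)) ≪≫ₗ
      (TensorProduct.AlgebraTensorModule.cancelBaseChange B k k' k' (Fin r → B)).symm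
  let eM : k' ⊗[B'] M' ≃ₗ[k'] k' ⊗[k] (k ⊗[B] M) :=
    (TensorProduct.AlgebraTensorModule.congr (LinearEquiv.refl k' k') hl.equiv.symm) ≪≫ₗ
      (TensorProduct.AlgebraTensorModule.cancelBaseChange B B' k' k' M) ≪≫ₗ
      (TensorProduct.AlgebraTensorModule.cancelBaseChange B k k' k' M).symm
  let αk : k' ⊗[k] (k ⊗[B] (Fin r → B)) →ₗ[k'] k' ⊗[k] (k ⊗[B] M) := (α.baseChange k).baseChange k'
  have hαk : Function.Bijective αk := by
    let e := (TensorProduct.AlgebraTensorModule.congr (LinearEquiv.refl k' k') (LinearEquiv.ofBijective _ h))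
    have : αk = e.toLinearMap := by
      ext x
      simp [αk, e]
      rfl
    rw [this]
    exact e.bijective
  have hv : ∀ v : Fin r → B, hl.equiv.symm (α' (ιv v)) = (1 : B') ⊗ₜ[B] α v := fun v => by
    rw [LinearEquiv.symm_apply_eq, hl.equiv_tmul, one_smul]
    exact hα v
  have hv' : ∀ v : Fin r → B, hι.equiv.symm (ιv v) = (1 : B') ⊗ₜ[B] v := fun v => by
    rw [LinearEquiv.symm_apply_eq, hι.equiv_tmul, one_smul]
  have hcomm : eM.toLinearMap.comp (α'.baseChange k') = αk.comp eF.toLinearMap := by
    refine TensorProduct.AlgebraTensorModule.ext fun x w => ?_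
    induction w using hι.inductionOn generalizing x with
    | zero => simp
    | tmul v =>
      simp only [eM, eF, αk, LinearMap.comp_apply, LinearEquiv.coe_coe, LinearMap.baseChange_tmul,
        LinearEquiv.trans_apply, TensorProduct.AlgebraTensorModule.congr_tmul, LinearEquiv.refl_apply, hv, hv',
        TensorProduct.AlgebraTensorModule.cancelBaseChange_tmul, one_smul,
        TensorProduct.AlgebraTensorModule.cancelBaseChange_symm_tmul, LinearMap.baseChange_tmul]
    | smul c w hw =>
      rw [← TensorProduct.smul_tmul, hw]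
    | add a b ha hb => rw [TensorProduct.tmul_add, map_add, map_add, ha, hb]
  have : Function.Bijective (eM.toLinearMap.comp (α'.baseChange k')) := by
    rw [hcomm]
    exact hαk.comp eF.bijective
  exact ((Function.Bijective.of_comp_iff' eM.bijective _).1 this)

end Groth.Agent.FlatDevPad
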