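import Groth.Agent.FlatDevPad.Alg
import Groth.Agent.FlatClosed.Basic
import Mathlib.RingTheory.IsTensorProduct
import Mathlib.LinearAlgebra.StdBasis

/-! Base change of maps from free modules and their cokernels. -/

universe u

set_option autoImplicit false
set_option backward.isDefEq.respectTransparency false
set_option backward.isDefEq.respectTransparency.types false

open TensorProduct

namespace Groth.Agent.FlatDevPad

variable {B B' M M' M₁ M₁' : Type u} [CommRing B] [CommRing B'] [Algebra B B']
  [AddCommGroup M] [Module B M] [AddCommGroup M'] [Module B' M'] [Module B M'] [IsScalarTower B B' M']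
  {r : ℕ} (l : M →ₗ[B] M') (α : (Fin r → B) →ₗ[B] M)

/-- The base change of a map from a free module. -/
noncomputable def extendMap : (Fin r → B') →ₗ[B'] M' :=
  (Pi.basisFun B' (Fin r)).constr B' fun k => l (α (Pi.single k 1))

theorem extendMap_algebraMap (v : Fin r → B) :
    extendMap (B' := B') l α (fun k => algebraMap B B' (v k)) = l (α v) := by
  let ι : (Fin r → B) →ₗ[B] (Fin r → B') :=
    LinearMap.pi fun k => (Algebra.linearMap B B').comp (LinearMap.proj k)
  have : ((extendMap (B' := B') l α).restrictScalars B).comp ι = l.comp α := by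
    refine (Pi.basisFun B (Fin r)).ext fun k => ?_
    rw [Pi.basisFun_apply, LinearMap.comp_apply, LinearMap.comp_apply]
    have e : ι (Pi.single k 1) = Pi.single k (1 : B') := funext fun j => by
      show algebraMap B B' ((Pi.single k (1 : B) : Fin r → B) j) = _
      by_cases h : j = k
      · subst h; simp
      · simp [Pi.single_eq_of_ne h]
    rw [e, LinearMap.restrictScalars_apply, ← Pi.basisFun_apply, extendMap, Module.Basis.constr_basis]
  exact LinearMap.congr_fun this v

theorem range_extendMap :
    LinearMap.range (extendMap (B' := B') l α) = Submodule.span B' (l '' (LinearMap.range α : Set M)) := by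
  refine le_antisymm ?_ (Submodule.span_le.2 ?_)
  · rw [extendMap, Module.Basis.constr_range, Submodule.span_le]
    rintro _ ⟨k, rfl⟩
    exact Submodule.subset_span ⟨_, ⟨_, rfl⟩, rfl⟩
  · rintro _ ⟨_, ⟨v, rfl⟩, rfl⟩
    exact ⟨_, extendMap_algebraMap l α v⟩

variable [AddCommGroup M₁] [Module B M₁] [AddCommGroup M₁'] [Module B' M₁'] [Module B M₁'] [IsScalarTower B B' M₁']

/-- Base change preserves a presentation of a cokernel. -/
theorem coker_extend (hl : IsBaseChange B' l) (c : M →ₗ[B] M₁) (hc : Function.Surjective c)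
    (hker : ∀ x, c x = 0 ↔ ∃ v, α v = x) (l₁ : M₁ →ₗ[B] M₁') (hl₁ : IsBaseChange B' l₁) :
    Function.Surjective (hl.lift (l₁.comp c)) ∧
      ∀ x, hl.lift (l₁.comp c) x = 0 ↔ ∃ v, extendMap (B' := B') l α v = x := by
  let c' := hl.lift (l₁.comp c)
  let W := LinearMap.range (extendMap (B' := B') l α)
  have hc' : ∀ m, c' (l m) = l₁ (c m) := fun m => hl.lift_eq _ m
  have hW : W ≤ LinearMap.ker c' := by
    show LinearMap.range (extendMap (B' := B') l α) ≤ _
    rw [range_extendMap, Submodule.span_le]
    rintro _ ⟨_, ⟨v, rfl⟩, rfl⟩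
    show c' (l (α v)) = 0
    rw [hc', (hker _).2 ⟨v, rfl⟩, map_zero]
  refine ⟨fun y => ?_, fun x => ⟨fun hx => ?_, fun ⟨v, hv⟩ => hW ⟨v, hv⟩⟩⟩
  · induction y using hl₁.inductionOn with
    | zero => exact ⟨0, map_zero _⟩
    | tmul m =>
      obtain ⟨m, rfl⟩ := hc m
      exact ⟨l m, hc' m⟩
    | smul b y hy =>
      obtain ⟨z, rfl⟩ := hy
      exact ⟨b • z, map_smul _ _ _⟩
    | add y z hy hz =>
      obtain ⟨a, rfl⟩ := hy
      obtain ⟨b, rfl⟩ := hz
      exact ⟨a + b, map_add _ _ _⟩
  · let θ : M →ₗ[B] M' ⧸ W := (W.mkQ.restrictScalars B).comp l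
    have hθ : LinearMap.ker c ≤ LinearMap.ker θ := fun m hm => by
      obtain ⟨v, rfl⟩ := (hker m).1 hm
      show W.mkQ (l (α v)) = 0
      rw [Submodule.mkQ_apply, Submodule.Quotient.mk_eq_zero]
      exact ⟨_, extendMap_algebraMap l α v⟩
    let ψ₀ : M₁ →ₗ[B] M' ⧸ W :=
      ((LinearMap.ker c).liftQ θ hθ).comp (c.quotKerEquivOfSurjective hc).symm.toLinearMap
    let ψ := hl₁.lift ψ₀
    have key : ψ.comp c' = W.mkQ := by
      refine hl.algHom_ext _ _ fun m => ?_
      show ψ (c' (l m)) = W.mkQ (l m)
      rw [hc', hl₁.lift_eq]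
      show (LinearMap.ker c).liftQ θ hθ ((c.quotKerEquivOfSurjective hc).symm (c m)) = _
      rw [show (c.quotKerEquivOfSurjective hc).symm (c m) = Submodule.Quotient.mk m from
        (c.quotKerEquivOfSurjective hc).symm_apply_eq.2 (LinearMap.quotKerEquivOfSurjective_apply_mk c hc m).symm]
      rfl
    have h0 := LinearMap.congr_fun key x
    rw [LinearMap.comp_apply, show c' x = 0 from hx, map_zero, Submodule.mkQ_apply] at h0
    exact (Submodule.Quotient.mk_eq_zero W).1 h0.symm

theorem extendMap_surjective (hl : IsBaseChange B' l) (hα : Function.Surjective α) :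
    Function.Surjective (extendMap (B' := B') l α) := by
  rw [← LinearMap.range_eq_top, range_extendMap, LinearMap.range_eq_top.2 hα, eq_top_iff]
  intro x hx
  clear hx
  induction x using hl.inductionOn with
  | zero => exact zero_mem _
  | tmul m => exact Submodule.subset_span ⟨m, trivial, rfl⟩
  | smul b y hy => exact Submodule.smul_mem _ b hy
  | add y z hy hz => exact add_mem hy hz

end Groth.Agent.FlatDevPad
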