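import Groth.Agent.FlatDevPad.Pad
import Groth.Agent.FlatDevPad.Coker

/-! Base change of a complete dévissage, as data. -/

universe u

set_option autoImplicit false
set_option backward.isDefEq.respectTransparency false
set_option backward.isDefEq.respectTransparency.types false
attribute [-instance] CategoryTheory.catToReflQuiver

open TensorProduct AlgebraicGeometry CategoryTheory

namespace Groth.Agent.FlatDevPad

attribute [local instance] Algebra.TensorProduct.rightAlgebra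

variable {R S : Type u} [CommRing R] [CommRing S] [Algebra R S] {N : Type u} [AddCommGroup N] [Module S N]
  {p : Ideal R} [p.IsPrime] (𝒟 : FlatCA.CompleteDevissage R S N p)
  (R' : Type u) [CommRing R'] [Algebra R R'] (p' : Ideal R') [p'.IsPrime] [p'.LiesOver p]
  (S' : Type u) [CommRing S'] [Algebra R' S'] [Algebra R S'] [Algebra S S'] [IsScalarTower R R' S']
  [IsScalarTower R S S'] [Algebra.IsPushout R R' S S']
  (N' : Type u) [AddCommGroup N'] [Module S' N'] [Module S N'] [IsScalarTower S S' N']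
  (f : N →ₗ[S] N') (hf : IsBaseChange S' f)

/-- The base-changed ring carrying the module. -/
abbrev bcA (j : Fin 𝒟.n) : Type u := R' ⊗[R] 𝒟.A j

/-- The base-changed smooth algebra. -/
abbrev bcB (j : Fin 𝒟.n) : Type u := R' ⊗[R] 𝒟.B j

/-- The base-changed module. -/
abbrev bcM (j : Fin 𝒟.n) : Type u := bcA 𝒟 R' j ⊗[𝒟.A j] 𝒟.M j

/-- The map into the base-changed module. -/
noncomputable def bcl (j : Fin 𝒟.n) : 𝒟.M j →ₗ[𝒟.A j] bcM 𝒟 R' j :=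
  TensorProduct.mk (𝒟.A j) (bcA 𝒟 R' j) (𝒟.M j) 1

theorem bcl_isBaseChange (j : Fin 𝒟.n) : IsBaseChange (bcA 𝒟 R' j) (bcl 𝒟 R' j) :=
  TensorProduct.isBaseChange (𝒟.A j) (𝒟.M j) (bcA 𝒟 R' j)

/-- The base-changed map `B i → A i`. -/
noncomputable def bcba (j : Fin 𝒟.n) : bcB 𝒟 R' j →ₐ[R'] bcA 𝒟 R' j :=
  Algebra.TensorProduct.map (AlgHom.id R' R') (IsScalarTower.toAlgHom R (𝒟.B j) (𝒟.A j))

/-- The base-changed map `B i → A (i + 1)`. -/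
noncomputable def bcba' (i : ℕ) (h : i + 1 < 𝒟.n) :
    bcB 𝒟 R' ⟨i, Nat.lt_of_succ_lt h⟩ →ₐ[R'] bcA 𝒟 R' ⟨i + 1, h⟩ :=
  Algebra.TensorProduct.map (AlgHom.id R' R') (IsScalarTower.toAlgHom R (𝒟.B i) (𝒟.A (i + 1)))

/-- The base-changed map `S → A 0`. -/
noncomputable def bcsa : S' →ₐ[R'] bcA 𝒟 R' ⟨0, 𝒟.pos⟩ :=
  (Algebra.TensorProduct.map (AlgHom.id R' R') (IsScalarTower.toAlgHom R S (𝒟.A 0))).comp
    (Algebra.IsPushout.equiv R R' S S').symm.toAlgHom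

theorem bcsa_algebraMap (s : S) : bcsa 𝒟 R' S' (algebraMap S S' s) = (1 : R') ⊗ₜ[R] algebraMap S (𝒟.A 0) s := by
  show Algebra.TensorProduct.map _ _ ((Algebra.IsPushout.equiv R R' S S').symm (algebraMap S S' s)) = _
  rw [Algebra.IsPushout.equiv_symm_algebraMap_right, Algebra.TensorProduct.map_tmul]
  rfl

theorem pushout_of_map {B₀ A₀ : Type u} [CommRing B₀] [CommRing A₀] [Algebra R B₀] [Algebra R A₀]
    [Algebra B₀ A₀] [IsScalarTower R B₀ A₀] :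
    ∃ (_ : Algebra (R' ⊗[R] B₀) (R' ⊗[R] A₀)) (_ : Algebra B₀ (R' ⊗[R] A₀)) (_ : IsScalarTower B₀ A₀ (R' ⊗[R] A₀))
      (_ : IsScalarTower B₀ (R' ⊗[R] B₀) (R' ⊗[R] A₀)),
      algebraMap (R' ⊗[R] B₀) (R' ⊗[R] A₀) =
        (Algebra.TensorProduct.map (AlgHom.id R' R') (IsScalarTower.toAlgHom R B₀ A₀)).toRingHom ∧
      Algebra.IsPushout B₀ (R' ⊗[R] B₀) A₀ (R' ⊗[R] A₀) := by
  let φ := Algebra.TensorProduct.map (AlgHom.id R' R') (IsScalarTower.toAlgHom R B₀ A₀)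
  letI a1 : Algebra (R' ⊗[R] B₀) (R' ⊗[R] A₀) := φ.toRingHom.toAlgebra
  letI a2 : Algebra B₀ (R' ⊗[R] A₀) := ((algebraMap A₀ (R' ⊗[R] A₀)).comp (algebraMap B₀ A₀)).toAlgebra
  haveI t1 : IsScalarTower B₀ A₀ (R' ⊗[R] A₀) := IsScalarTower.of_algebraMap_eq' rfl
  haveI t2 : IsScalarTower B₀ (R' ⊗[R] B₀) (R' ⊗[R] A₀) := IsScalarTower.of_algebraMap_eq fun b => by
    show (1 : R') ⊗ₜ[R] algebraMap B₀ A₀ b = φ ((1 : R') ⊗ₜ[R] b)
    rw [Algebra.TensorProduct.map_tmul]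
    rfl
  haveI : IsScalarTower R' (R' ⊗[R] B₀) (R' ⊗[R] A₀) := IsScalarTower.of_algebraMap_eq fun r => (φ.commutes r).symm
  haveI : Algebra.IsPushout R B₀ R' (R' ⊗[R] B₀) := Algebra.IsPushout.symm inferInstance
  haveI : Algebra.IsPushout R A₀ R' (R' ⊗[R] A₀) := Algebra.IsPushout.symm inferInstance
  haveI := Groth.Agent.FlatClosed.isPushout_cancel R B₀ A₀ R' (R' ⊗[R] B₀) (R' ⊗[R] A₀)
  exact ⟨a1, a2, t1, t2, rfl, Algebra.IsPushout.symm inferInstance⟩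

theorem map_finite {B₀ A₀ : Type u} [CommRing B₀] [CommRing A₀] [Algebra R B₀] [Algebra R A₀]
    [Algebra B₀ A₀] [IsScalarTower R B₀ A₀] [Module.Finite B₀ A₀] :
    (Algebra.TensorProduct.map (AlgHom.id R' R') (IsScalarTower.toAlgHom R B₀ A₀)).toRingHom.Finite := by
  obtain ⟨_, _, _, _, e, hpo⟩ := pushout_of_map (R := R) (B₀ := B₀) (A₀ := A₀) R'
  rw [← e]
  exact RingHom.finite_algebraMap.2 (Module.Finite.equiv (Algebra.IsPushout.equiv B₀ (R' ⊗[R] B₀) A₀ (R' ⊗[R] A₀)).toLinearEquiv)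

theorem map_fp {B₀ A₀ : Type u} [CommRing B₀] [CommRing A₀] [Algebra R B₀] [Algebra R A₀]
    [Algebra B₀ A₀] [IsScalarTower R B₀ A₀] [Algebra.FinitePresentation B₀ A₀] :
    (Algebra.TensorProduct.map (AlgHom.id R' R') (IsScalarTower.toAlgHom R B₀ A₀)).toRingHom.FinitePresentation := by
  obtain ⟨_, _, _, _, e, hpo⟩ := pushout_of_map (R := R) (B₀ := B₀) (A₀ := A₀) R'
  rw [← e]
  exact RingHom.finitePresentation_algebraMap.2
    (Algebra.FinitePresentation.equiv (Algebra.IsPushout.equiv B₀ (R' ⊗[R] B₀) A₀ (R' ⊗[R] A₀)))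

theorem map_surjective {B₀ A₀ : Type u} [CommRing B₀] [CommRing A₀] [Algebra R B₀] [Algebra R A₀]
    (φ : B₀ →ₐ[R] A₀) (hφ : Function.Surjective φ) :
    Function.Surjective (Algebra.TensorProduct.map (AlgHom.id R' R') φ) := fun x => by
  induction x using TensorProduct.induction_on with
  | zero => exact ⟨0, map_zero _⟩
  | tmul a b =>
    obtain ⟨b, rfl⟩ := hφ b
    exact ⟨a ⊗ₜ b, Algebra.TensorProduct.map_tmul _ _ _ _⟩
  | add a b ha hb =>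
    obtain ⟨a', rfl⟩ := ha
    obtain ⟨b', rfl⟩ := hb
    exact ⟨a' + b', map_add _ _ _⟩

set_option maxHeartbeats 400000 in
/-- Restricting a base change along a map of base-changed algebras. -/
theorem restrict_of_map {B₀ A₀ B' A' M₀ M' : Type u} [CommRing B₀] [CommRing A₀] [CommRing B'] [CommRing A']
    [Algebra R B₀] [Algebra R A₀] [Algebra B₀ A₀] [IsScalarTower R B₀ A₀] [Algebra R' B'] [Algebra R B']
    [Algebra B₀ B'] [IsScalarTower R R' B'] [IsScalarTower R B₀ B'] [Algebra.IsPushout R R' B₀ B']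
    [Algebra R' A'] [Algebra R A'] [Algebra A₀ A'] [IsScalarTower R R' A'] [IsScalarTower R A₀ A']
    [Algebra.IsPushout R R' A₀ A'] [AddCommGroup M₀] [Module A₀ M₀] [Module B₀ M₀] [IsScalarTower B₀ A₀ M₀]
    [AddCommGroup M'] [Module A' M'] [Module A₀ M'] [IsScalarTower A₀ A' M']
    (φ : B' →ₐ[R'] A') (hφ : ∀ b, φ (algebraMap B₀ B' b) = algebraMap A₀ A' (algebraMap B₀ A₀ b))
    (g : M₀ →ₗ[A₀] M') (hg : IsBaseChange A' g) :
    letI : Module B' M' := Module.compHom M' φ.toRingHom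
    letI : Module B₀ M' := Module.compHom M' (algebraMap B₀ B')
    haveI : IsScalarTower B₀ B' M' := IsScalarTower.of_algebraMap_smul fun _ _ => rfl
    ∃ l : M₀ →ₗ[B₀] M', IsBaseChange B' l ∧ ∀ m, l m = g m := by
  letI : Module B' M' := Module.compHom M' φ.toRingHom
  letI : Module B₀ M' := Module.compHom M' (algebraMap B₀ B')
  letI : Algebra B' A' := φ.toRingHom.toAlgebra
  letI : Algebra B₀ A' := ((algebraMap A₀ A').comp (algebraMap B₀ A₀)).toAlgebra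
  haveI : IsScalarTower B₀ A₀ A' := IsScalarTower.of_algebraMap_eq' rfl
  haveI : IsScalarTower B₀ B' A' := IsScalarTower.of_algebraMap_eq fun b => (hφ b).symm
  haveI : IsScalarTower R' B' A' := IsScalarTower.of_algebraMap_eq fun r => (φ.commutes r).symm
  haveI : Algebra.IsPushout R B₀ R' B' := Algebra.IsPushout.symm inferInstance
  haveI : Algebra.IsPushout R A₀ R' A' := Algebra.IsPushout.symm inferInstance
  haveI := Groth.Agent.FlatClosed.isPushout_cancel R B₀ A₀ R' B' A'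
  haveI : Algebra.IsPushout B₀ B' A₀ A' := Algebra.IsPushout.symm inferInstance
  haveI : IsScalarTower B' A' M' := IsScalarTower.of_algebraMap_smul fun _ _ => rfl
  haveI : IsScalarTower B₀ B' M' := IsScalarTower.of_algebraMap_smul fun _ _ => rfl
  haveI : IsScalarTower B₀ A₀ M' := IsScalarTower.of_algebraMap_smul fun b m => by
    show _ = φ (algebraMap B₀ B' b) • m
    rw [hφ]
    exact (IsScalarTower.algebraMap_smul A' _ m).symm
  exact ⟨g.restrictScalars B₀,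
    Groth.Agent.FlatClosed.isBaseChange_restrict B₀ B' A₀ A' M₀ M' g hg, fun _ => rfl⟩

theorem bcba_algebraMap (j : Fin 𝒟.n) (b : 𝒟.B j) :
    bcba 𝒟 R' j ((1 : R') ⊗ₜ[R] b) = (1 : R') ⊗ₜ[R] algebraMap (𝒟.B j) (𝒟.A j) b := by
  rw [bcba, Algebra.TensorProduct.map_tmul]
  rfl

/-- The module over the base-changed smooth algebra, as a base change. -/
theorem bcM_isBaseChange (j : Fin 𝒟.n) :
    letI : Module (bcB 𝒟 R' j) (bcM 𝒟 R' j) := Module.compHom _ (bcba 𝒟 R' j).toRingHom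
    letI : Module (𝒟.B j) (bcM 𝒟 R' j) := Module.compHom _ (algebraMap (𝒟.B j) (bcB 𝒟 R' j))
    haveI : IsScalarTower (𝒟.B j) (bcB 𝒟 R' j) (bcM 𝒟 R' j) := IsScalarTower.of_algebraMap_smul fun _ _ => rfl
    ∃ l : 𝒟.M j →ₗ[𝒟.B j] bcM 𝒟 R' j, IsBaseChange (bcB 𝒟 R' j) l ∧ ∀ m, l m = bcl 𝒟 R' j m := by
  exact restrict_of_map (R := R) R' (B₀ := 𝒟.B j) (A₀ := 𝒟.A j) (bcba 𝒟 R' j) (bcba_algebraMap 𝒟 R' j) (bcl 𝒟 R' j) (bcl_isBaseChange 𝒟 R' j)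

/-- The next module over a base-changed smooth algebra, as a base change. -/
theorem bcM_succ_isBaseChange (i : ℕ) (h : i + 1 < 𝒟.n) :
    letI : Module (bcB 𝒟 R' ⟨i, Nat.lt_of_succ_lt h⟩) (bcM 𝒟 R' ⟨i + 1, h⟩) := Module.compHom _ (bcba' 𝒟 R' i h).toRingHom
    letI : Module (𝒟.B i) (bcM 𝒟 R' ⟨i + 1, h⟩) := Module.compHom _ (algebraMap (𝒟.B i) (bcB 𝒟 R' ⟨i, Nat.lt_of_succ_lt h⟩))
    haveI : IsScalarTower (𝒟.B i) (bcB 𝒟 R' ⟨i, Nat.lt_of_succ_lt h⟩) (bcM 𝒟 R' ⟨i + 1, h⟩) := IsScalarTower.of_algebraMap_smul fun _ _ => rfl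
    ∃ l : 𝒟.M (i + 1) →ₗ[𝒟.B i] bcM 𝒟 R' ⟨i + 1, h⟩, IsBaseChange (bcB 𝒟 R' ⟨i, Nat.lt_of_succ_lt h⟩) l := by
  obtain ⟨l, hl, -⟩ := restrict_of_map (R := R) R' (B₀ := 𝒟.B i) (A₀ := 𝒟.A (i + 1)) (bcba' 𝒟 R' i h) (fun b => by
      show Algebra.TensorProduct.map (AlgHom.id R' R') (IsScalarTower.toAlgHom R (𝒟.B i) (𝒟.A (i + 1))) ((1 : R') ⊗ₜ[R] b) = _
      rw [Algebra.TensorProduct.map_tmul]
      rfl) (bcl 𝒟 R' ⟨i + 1, h⟩) (bcl_isBaseChange 𝒟 R' ⟨i + 1, h⟩)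
  exact ⟨l, hl⟩

/-- The base-changed map from the free module. -/
noncomputable def bcα (j : Fin 𝒟.n) : (Fin (𝒟.r j) → bcB 𝒟 R' j) →+ bcM 𝒟 R' j :=
  letI : Module (bcB 𝒟 R' j) (bcM 𝒟 R' j) := Module.compHom _ (bcba 𝒟 R' j).toRingHom
  letI : Module (𝒟.B j) (bcM 𝒟 R' j) := Module.compHom _ (algebraMap (𝒟.B j) (bcB 𝒟 R' j))
  haveI : IsScalarTower (𝒟.B j) (bcB 𝒟 R' j) (bcM 𝒟 R' j) := IsScalarTower.of_algebraMap_smul fun _ _ => rfl
  (extendMap (B' := bcB 𝒟 R' j) (Classical.choose (bcM_isBaseChange 𝒟 R' j)) (𝒟.α j)).toAddMonoidHom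

theorem bcα_smul (j : Fin 𝒟.n) (b : bcB 𝒟 R' j) (v : Fin (𝒟.r j) → bcB 𝒟 R' j) :
    bcα 𝒟 R' j (b • v) = bcba 𝒟 R' j b • bcα 𝒟 R' j v :=
  letI : Module (bcB 𝒟 R' j) (bcM 𝒟 R' j) := Module.compHom _ (bcba 𝒟 R' j).toRingHom
  letI : Module (𝒟.B j) (bcM 𝒟 R' j) := Module.compHom _ (algebraMap (𝒟.B j) (bcB 𝒟 R' j))
  haveI : IsScalarTower (𝒟.B j) (bcB 𝒟 R' j) (bcM 𝒟 R' j) := IsScalarTower.of_algebraMap_smul fun _ _ => rfl
  map_smul (extendMap (B' := bcB 𝒟 R' j) (Classical.choose (bcM_isBaseChange 𝒟 R' j)) (𝒟.α j)) b v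

/-- The image of the base-changed map. -/
theorem range_bcα (j : Fin 𝒟.n) :
    letI : Module (bcB 𝒟 R' j) (bcM 𝒟 R' j) := Module.compHom _ (bcba 𝒟 R' j).toRingHom
    ∀ x, (∃ v, bcα 𝒟 R' j v = x) ↔
      x ∈ Submodule.span (bcB 𝒟 R' j) (bcl 𝒟 R' j '' (LinearMap.range (𝒟.α j) : Set (𝒟.M j))) := by
  letI : Module (bcB 𝒟 R' j) (bcM 𝒟 R' j) := Module.compHom _ (bcba 𝒟 R' j).toRingHom
  letI : Module (𝒟.B j) (bcM 𝒟 R' j) := Module.compHom _ (algebraMap (𝒟.B j) (bcB 𝒟 R' j))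
  haveI : IsScalarTower (𝒟.B j) (bcB 𝒟 R' j) (bcM 𝒟 R' j) := IsScalarTower.of_algebraMap_smul fun _ _ => rfl
  intro x
  have e : ⇑(Classical.choose (bcM_isBaseChange 𝒟 R' j)) = ⇑(bcl 𝒟 R' j) :=
    funext (Classical.choose_spec (bcM_isBaseChange 𝒟 R' j)).2
  rw [← e, ← range_extendMap (B' := bcB 𝒟 R' j)]
  rfl

theorem bc_smooth (j : Fin 𝒟.n) : Algebra.Smooth R' (bcB 𝒟 R' j) := by
  haveI := 𝒟.smooth j j.2
  infer_instance

theorem bc_geomIrred (j : Fin 𝒟.n) : FlatCA.GeomIrredFibres R' (bcB 𝒟 R' j) := by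
  have hp := isPullback_SpecMap_of_isPushout _ _ _ _
    (CommRingCat.isPushout_iff_isPushout.mpr (Algebra.IsPushout.symm inferInstance :
      Algebra.IsPushout R (𝒟.B j) R' (bcB 𝒟 R' j)))
  exact MorphismProperty.of_isPullback (P := @GeometricallyIrreducible) hp (𝒟.geomIrred j j.2)

set_option maxHeartbeats 800000 in
include hf in
theorem exists_isoN :
    ∃ e : N' →+ bcM 𝒟 R' ⟨0, 𝒟.pos⟩, (∀ (s : S') (x : N'), e (s • x) = bcsa 𝒟 R' S' s • e x) ∧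
      Function.Bijective e ∧ ∀ x : N, e (f x) = bcl 𝒟 R' ⟨0, 𝒟.pos⟩ (𝒟.isoN x) := by
  let j : Fin 𝒟.n := ⟨0, 𝒟.pos⟩
  letI : Module S' (bcM 𝒟 R' j) := Module.compHom _ (bcsa 𝒟 R' S').toRingHom
  letI : Module S (bcM 𝒟 R' j) := Module.compHom _ (algebraMap S S')
  obtain ⟨l, hM, hleq⟩ := restrict_of_map (R := R) R' (B₀ := S) (A₀ := 𝒟.A 0) (bcsa 𝒟 R' S') (bcsa_algebraMap 𝒟 R' S') (bcl 𝒟 R' j) (bcl_isBaseChange 𝒟 R' j)
  haveI : IsScalarTower S S' (bcM 𝒟 R' j) := ⟨fun a b m => by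
    show bcsa 𝒟 R' S' (a • b) • m = bcsa 𝒟 R' S' (algebraMap S S' a) • (bcsa 𝒟 R' S' b • m)
    rw [Algebra.smul_def, map_mul, mul_smul]⟩
  haveI : IsScalarTower S S (bcM 𝒟 R' j) := IsScalarTower.left S
  have h' : IsBaseChange S' (l.comp 𝒟.isoN.toLinearMap) :=
    (IsBaseChange.ofEquiv 𝒟.isoN).comp hM
  refine ⟨(hf.equiv.symm ≪≫ₗ h'.equiv).toAddMonoidHom, fun s x => map_smul (hf.equiv.symm ≪≫ₗ h'.equiv) s x,
    (hf.equiv.symm ≪≫ₗ h'.equiv).bijective, fun x => ?_⟩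
  show h'.equiv (hf.equiv.symm (f x)) = _
  rw [show hf.equiv.symm (f x) = (1 : S') ⊗ₜ[S] x from hf.equiv.symm_apply_eq.2 (by rw [hf.equiv_tmul, one_smul]),
    h'.equiv_tmul, one_smul]
  exact hleq _

theorem exists_coker (i : ℕ) (h : i + 1 < 𝒟.n) :
    ∃ c : bcM 𝒟 R' ⟨i, Nat.lt_of_succ_lt h⟩ →+ bcM 𝒟 R' ⟨i + 1, h⟩,
      (∀ b x, c (bcba 𝒟 R' ⟨i, Nat.lt_of_succ_lt h⟩ b • x) = bcba' 𝒟 R' i h b • c x) ∧
      Function.Surjective c ∧ ∀ x, c x = 0 ↔ ∃ v, bcα 𝒟 R' ⟨i, Nat.lt_of_succ_lt h⟩ v = x := by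
  let j : Fin 𝒟.n := ⟨i, Nat.lt_of_succ_lt h⟩
  let j₁ : Fin 𝒟.n := ⟨i + 1, h⟩
  letI : Module (bcB 𝒟 R' j) (bcM 𝒟 R' j) := Module.compHom _ (bcba 𝒟 R' j).toRingHom
  letI : Module (𝒟.B j) (bcM 𝒟 R' j) := Module.compHom _ (algebraMap (𝒟.B j) (bcB 𝒟 R' j))
  haveI : IsScalarTower (𝒟.B j) (bcB 𝒟 R' j) (bcM 𝒟 R' j) := IsScalarTower.of_algebraMap_smul fun _ _ => rfl
  letI : Module (bcB 𝒟 R' j) (bcM 𝒟 R' j₁) := Module.compHom _ (bcba' 𝒟 R' i h).toRingHom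
  letI : Module (𝒟.B j) (bcM 𝒟 R' j₁) := Module.compHom _ (algebraMap (𝒟.B j) (bcB 𝒟 R' j))
  haveI : IsScalarTower (𝒟.B j) (bcB 𝒟 R' j) (bcM 𝒟 R' j₁) := IsScalarTower.of_algebraMap_smul fun _ _ => rfl
  obtain ⟨l₁, hl₁⟩ := bcM_succ_isBaseChange 𝒟 R' i h
  have hl := (Classical.choose_spec (bcM_isBaseChange 𝒟 R' j)).1
  let c : 𝒟.M i →ₗ[𝒟.B i] 𝒟.M (i + 1) :=
    (𝒟.isoCoker i h).toLinearMap.comp (LinearMap.range (𝒟.α i)).mkQ
  have hc : Function.Surjective c := (𝒟.isoCoker i h).surjective.comp (Submodule.mkQ_surjective _)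
  have hker : ∀ x, c x = 0 ↔ ∃ v, 𝒟.α i v = x := fun x => by
    show (𝒟.isoCoker i h) ((LinearMap.range (𝒟.α i)).mkQ x) = 0 ↔ _
    rw [LinearEquiv.map_eq_zero_iff, Submodule.mkQ_apply, Submodule.Quotient.mk_eq_zero]
    rfl
  obtain ⟨hs, hk⟩ := coker_extend (B' := bcB 𝒟 R' j) (Classical.choose (bcM_isBaseChange 𝒟 R' j)) (𝒟.α i) hl c hc hker l₁ hl₁
  exact ⟨(hl.lift (l₁.comp c)).toAddMonoidHom, fun b x => map_smul (hl.lift (l₁.comp c)) b x, hs, hk⟩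

include hf in
/-- The base-changed dévissage, as data. -/
noncomputable def bcData : Data R' S' N' p' where
  n := 𝒟.n
  pos := 𝒟.pos
  A := bcA 𝒟 R'
  B := bcB 𝒟 R'
  M := bcM 𝒟 R'
  r := 𝒟.r
  ba := bcba 𝒟 R'
  ba' := bcba' 𝒟 R'
  sa := bcsa 𝒟 R' S'
  α := bcα 𝒟 R'
  α_smul := bcα_smul 𝒟 R'
  surjSA := (map_surjective R' (IsScalarTower.toAlgHom R S (𝒟.A 0)) 𝒟.surjSA).comp
    (Algebra.IsPushout.equiv R R' S S').symm.surjective
  fpSA := by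
    haveI := 𝒟.fpSA
    exact (map_fp (B₀ := S) (A₀ := 𝒟.A 0) R').comp
      (RingHom.FinitePresentation.of_bijective (Algebra.IsPushout.equiv R R' S S').symm.bijective)
  surjBA' := fun i h => map_surjective R' (IsScalarTower.toAlgHom R (𝒟.B i) (𝒟.A (i + 1))) (𝒟.surjBA' i h)
  fpBA' := fun i h => by
    haveI := 𝒟.fpBA' i h
    exact map_fp R'
  finiteBA := fun j => by
    haveI := 𝒟.finiteBA j j.2
    exact map_finite R'
  smooth := bc_smooth 𝒟 R'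
  geomIrred := bc_geomIrred 𝒟 R'
  finiteM := fun j => by
    haveI := 𝒟.finiteM j j.2
    exact Module.Finite.equiv (bcl_isBaseChange 𝒟 R' j).equiv
  hp := fun j => by
    haveI := bc_smooth 𝒟 R' j
    exact isPrime_map R' (bcB 𝒟 R' j) (bc_geomIrred 𝒟 R' j) p'
  isoN := Classical.choose (exists_isoN 𝒟 R' S' N' f hf)
  isoN_smul := (Classical.choose_spec (exists_isoN 𝒟 R' S' N' f hf)).1
  isoN_bij := (Classical.choose_spec (exists_isoN 𝒟 R' S' N' f hf)).2.1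
  coker := fun i h => Classical.choose (exists_coker 𝒟 R' i h)
  coker_smul := fun i h => (Classical.choose_spec (exists_coker 𝒟 R' i h)).1
  coker_surj := fun i h => (Classical.choose_spec (exists_coker 𝒟 R' i h)).2.1
  coker_ker := fun i h => (Classical.choose_spec (exists_coker 𝒟 R' i h)).2.2
  fibreIso := fun j => by
    letI : Module (bcB 𝒟 R' j) (bcM 𝒟 R' j) := Module.compHom _ (bcba 𝒟 R' j).toRingHom
    letI : Module (𝒟.B j) (bcM 𝒟 R' j) := Module.compHom _ (algebraMap (𝒟.B j) (bcB 𝒟 R' j))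
    haveI : IsScalarTower (𝒟.B j) (bcB 𝒟 R' j) (bcM 𝒟 R' j) := IsScalarTower.of_algebraMap_smul fun _ _ => rfl
    haveI := 𝒟.hp j
    haveI := bc_smooth 𝒟 R' j
    haveI := isPrime_map R' (bcB 𝒟 R' j) (bc_geomIrred 𝒟 R' j) p'
    haveI := 𝒟.smooth j j.2
    haveI : (p'.map (algebraMap R' (bcB 𝒟 R' j))).LiesOver (p.map (algebraMap R (𝒟.B j))) :=
      map_liesOver R R' (𝒟.B j) (bcB 𝒟 R' j) p p'
    exact bijective_baseChange_residueField (Classical.choose (bcM_isBaseChange 𝒟 R' j))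
      (Classical.choose_spec (bcM_isBaseChange 𝒟 R' j)).1 (𝒟.r j) (𝒟.α j) _
      (fun v => extendMap_algebraMap _ (𝒟.α j) v) (p.map (algebraMap R (𝒟.B j)))
      (p'.map (algebraMap R' (bcB 𝒟 R' j))) (𝒟.fibreIso j j.2)
  cokerLast := by
    let j : Fin 𝒟.n := ⟨𝒟.n - 1, Nat.sub_one_lt_of_lt 𝒟.pos⟩
    letI : Module (bcB 𝒟 R' j) (bcM 𝒟 R' j) := Module.compHom _ (bcba 𝒟 R' j).toRingHom
    letI : Module (𝒟.B j) (bcM 𝒟 R' j) := Module.compHom _ (algebraMap (𝒟.B j) (bcB 𝒟 R' j))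
    haveI : IsScalarTower (𝒟.B j) (bcB 𝒟 R' j) (bcM 𝒟 R' j) := IsScalarTower.of_algebraMap_smul fun _ _ => rfl
    exact extendMap_surjective _ (𝒟.α j) (Classical.choose_spec (bcM_isBaseChange 𝒟 R' j)).1 𝒟.cokerLast

end Groth.Agent.FlatDevPad
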