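import Groth.Agent.FlatDevPad.Alg
import Mathlib.Algebra.Module.Pi
import Mathlib.Algebra.Algebra.Pi
import Mathlib.Algebra.Algebra.Prod

/-! A complete dévissage from data given only at the steps below its length. -/

universe u

set_option autoImplicit false
set_option backward.isDefEq.respectTransparency false
set_option backward.isDefEq.respectTransparency.types false
attribute [-instance] CategoryTheory.catToReflQuiver

open TensorProduct AlgebraicGeometry CategoryTheory

namespace Groth.Agent.FlatDevPad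

/-- The data of a complete dévissage at the steps below its length. -/
structure Data (R S : Type u) [CommRing R] [CommRing S] [Algebra R S] (N : Type u)
    [AddCommGroup N] [Module S N] (p : Ideal R) [p.IsPrime] : Type (u + 1) where
  n : ℕ
  pos : 0 < n
  A : Fin n → Type u
  B : Fin n → Type u
  M : Fin n → Type u
  r : ℕ → ℕ
  [cA : ∀ i, CommRing (A i)] [cB : ∀ i, CommRing (B i)]
  [aRA : ∀ i, Algebra R (A i)] [aRB : ∀ i, Algebra R (B i)]
  [gM : ∀ i, AddCommGroup (M i)] [mAM : ∀ i, Module (A i) (M i)]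
  ba : ∀ i, B i →ₐ[R] A i
  ba' : ∀ (i : ℕ) (h : i + 1 < n), B ⟨i, Nat.lt_of_succ_lt h⟩ →ₐ[R] A ⟨i + 1, h⟩
  sa : S →ₐ[R] A ⟨0, pos⟩
  α : ∀ i : Fin n, (Fin (r i) → B i) →+ M i
  α_smul : ∀ (i : Fin n) (b : B i) (v : Fin (r i) → B i), α i (b • v) = ba i b • α i v
  surjSA : Function.Surjective sa
  fpSA : sa.toRingHom.FinitePresentation
  surjBA' : ∀ (i : ℕ) (h : i + 1 < n), Function.Surjective (ba' i h)
  fpBA' : ∀ (i : ℕ) (h : i + 1 < n), (ba' i h).toRingHom.FinitePresentation
  finiteBA : ∀ i, (ba i).toRingHom.Finite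
  smooth : ∀ i, Algebra.Smooth R (B i)
  geomIrred : ∀ i, FlatCA.GeomIrredFibres R (B i)
  finiteM : ∀ i, Module.Finite (A i) (M i)
  hp : ∀ i, (p.map (algebraMap R (B i))).IsPrime
  isoN : N →+ M ⟨0, pos⟩
  isoN_smul : ∀ (s : S) (x : N), isoN (s • x) = sa s • isoN x
  isoN_bij : Function.Bijective isoN
  coker : ∀ (i : ℕ) (h : i + 1 < n), M ⟨i, Nat.lt_of_succ_lt h⟩ →+ M ⟨i + 1, h⟩
  coker_smul : ∀ (i : ℕ) (h : i + 1 < n) (b : B ⟨i, Nat.lt_of_succ_lt h⟩) (x : M ⟨i, Nat.lt_of_succ_lt h⟩),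
    coker i h (ba ⟨i, Nat.lt_of_succ_lt h⟩ b • x) = ba' i h b • coker i h x
  coker_surj : ∀ (i : ℕ) (h : i + 1 < n), Function.Surjective (coker i h)
  coker_ker : ∀ (i : ℕ) (h : i + 1 < n) (x : M ⟨i, Nat.lt_of_succ_lt h⟩),
    coker i h x = 0 ↔ ∃ v, α ⟨i, Nat.lt_of_succ_lt h⟩ v = x
  fibreIso : ∀ i : Fin n,
    letI : Module (B i) (M i) := Module.compHom (M i) (ba i).toRingHom
    haveI : (p.map (algebraMap R (B i))).IsPrime := hp i
    Function.Bijective (LinearMap.baseChange (p.map (algebraMap R (B i))).ResidueField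
      ({ toFun := α i, map_add' := map_add (α i), map_smul' := α_smul i } : (Fin (r i) → B i) →ₗ[B i] M i))
  cokerLast : Function.Surjective (α ⟨n - 1, Nat.sub_one_lt_of_lt pos⟩)

attribute [instance] Data.cA Data.cB Data.aRA Data.aRB Data.gM Data.mAM

variable {R S : Type u} [CommRing R] [CommRing S] [Algebra R S] {N : Type u}
  [AddCommGroup N] [Module S N] {p : Ideal R} [p.IsPrime] (d : Data R S N p)

/-- The rings carrying the modules; beyond the length, the last smooth algebra and then the base ring. -/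
abbrev Data.PA (i : ℕ) : Type u := (∀ h : PLift.{0} (i < d.n), d.A ⟨i, h.down⟩) ×
  ((∀ h : PLift.{0} (d.n ≤ i ∧ i - 1 < d.n), d.B ⟨i - 1, h.down.2⟩) × (∀ _ : PLift.{0} (d.n < i), R))

/-- The smooth algebras, the base ring beyond the length. -/
abbrev Data.PB (i : ℕ) : Type u := (∀ h : PLift.{0} (i < d.n), d.B ⟨i, h.down⟩) × (∀ _ : PLift.{0} (d.n ≤ i), R)

/-- The modules, zero beyond the length. -/
abbrev Data.PM (i : ℕ) : Type u := ∀ h : PLift.{0} (i < d.n), d.M ⟨i, h.down⟩

/-- The modules are acted on through the first factor of the padded rings. -/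
noncomputable instance Data.modPM (i : ℕ) : Module (d.PA i) (d.PM i) :=
  Module.compHom (d.PM i) (RingHom.fst (∀ h : PLift.{0} (i < d.n), d.A ⟨i, h.down⟩)
    ((∀ h : PLift.{0} (d.n ≤ i ∧ i - 1 < d.n), d.B ⟨i - 1, h.down.2⟩) × (∀ _ : PLift.{0} (d.n < i), R)))

/-- The padded map `B i → A i`. -/
noncomputable def Data.pba (i : ℕ) : d.PB i →ₐ[R] d.PA i :=
  (AlgHom.comp (Pi.algHom R _ fun h => (d.ba ⟨i, h.down⟩).comp (Pi.evalAlgHom R (fun h : PLift.{0} (i < d.n) => d.B ⟨i, h.down⟩) h))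
    (AlgHom.fst R _ _)).prod
    ((AlgHom.comp (Pi.algHom R _ fun h => (Algebra.ofId R (d.B ⟨i - 1, h.down.2⟩)).comp
      (Pi.evalAlgHom R (fun _ : PLift.{0} (d.n ≤ i) => R) ⟨h.down.1⟩)) (AlgHom.snd R _ _)).prod
    (AlgHom.comp (Pi.algHom R _ fun h => Pi.evalAlgHom R (fun _ : PLift.{0} (d.n ≤ i) => R) ⟨h.down.le⟩)
      (AlgHom.snd R _ _)))

/-- The padded map `B i → A (i + 1)`. -/
noncomputable def Data.pba' (i : ℕ) : d.PB i →ₐ[R] d.PA (i + 1) :=
  (AlgHom.comp (Pi.algHom R _ fun h => (d.ba' i h.down).comp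
    (Pi.evalAlgHom R (fun h : PLift.{0} (i < d.n) => d.B ⟨i, h.down⟩) ⟨Nat.lt_of_succ_lt h.down⟩))
    (AlgHom.fst R _ _)).prod
    ((AlgHom.comp (Pi.algHom R _ fun h =>
      Pi.evalAlgHom R (fun h : PLift.{0} (i < d.n) => d.B ⟨i, h.down⟩) ⟨h.down.2⟩) (AlgHom.fst R _ _)).prod
    (AlgHom.comp (Pi.algHom R _ fun h => Pi.evalAlgHom R (fun _ : PLift.{0} (d.n ≤ i) => R) ⟨Nat.le_of_lt_succ h.down⟩)
      (AlgHom.snd R _ _)))

/-- The padded map `S → A 0`. -/
noncomputable def Data.psa : S →ₐ[R] d.PA 0 :=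
  (Pi.algHom R _ fun _ => d.sa).prod
    ((Pi.algHom R _ fun h => absurd d.pos (Nat.not_lt.2 h.down.1)).prod
      (Pi.algHom R _ fun h => absurd h.down (Nat.not_lt_zero _)))

theorem Data.proj_bijective (i : Fin d.n) :
    Function.Bijective (fun x : d.PB i => x.1 ⟨i.2⟩) := by
  refine ⟨fun x y h => Prod.ext (funext fun h' => h) (funext fun h' => absurd h'.down (Nat.not_le.2 i.2)),
    fun b => ⟨(fun _ => b, 0), rfl⟩⟩

/-- The padded smooth algebra at a step is the given one. -/
noncomputable def Data.eB (i : Fin d.n) : d.PB i ≃ₐ[R] d.B i :=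
  AlgEquiv.ofBijective ((Pi.evalAlgHom R (fun h : PLift.{0} ((i : ℕ) < d.n) => d.B ⟨i, h.down⟩) ⟨i.2⟩).comp
    (AlgHom.fst R _ _)) (d.proj_bijective i)

/-- The padded ring at a step is the given one. -/
noncomputable def Data.eA (i : Fin d.n) : d.PA i ≃ₐ[R] d.A i :=
  AlgEquiv.ofBijective ((Pi.evalAlgHom R (fun h : PLift.{0} ((i : ℕ) < d.n) => d.A ⟨i, h.down⟩) ⟨i.2⟩).comp
    (AlgHom.fst R _ _))
    ⟨fun _ _ h => Prod.ext (funext fun _ => h) (Prod.ext
      (funext fun h' => absurd i.2 (Nat.not_lt.2 h'.down.1)) (funext fun h' => absurd i.2 (Nat.not_lt.2 h'.down.le))),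
      fun a => ⟨(fun _ => a, 0), rfl⟩⟩

theorem Data.pba_eq (i : Fin d.n) (x : d.PB i) : d.eA i (d.pba i x) = d.ba i (d.eB i x) := rfl

theorem Data.pba'_eq (i : ℕ) (h : i + 1 < d.n) (x : d.PB i) :
    d.eA ⟨i + 1, h⟩ (d.pba' i x) = d.ba' i h (d.eB ⟨i, Nat.lt_of_succ_lt h⟩ x) := rfl

theorem Data.finitePresentation_conj {A₁ A₂ B₁ B₂ : Type u} [CommRing A₁] [CommRing A₂] [CommRing B₁] [CommRing B₂]
    (f : A₁ →+* B₁) (g : A₂ →+* B₂) (ea : A₂ ≃+* A₁) (eb : B₂ ≃+* B₁) (h : ∀ x, eb (g x) = f (ea x))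
    (hf : f.FinitePresentation) : g.FinitePresentation := by
  have : g = eb.symm.toRingHom.comp (f.comp ea.toRingHom) := RingHom.ext fun x => by
    show g x = eb.symm (f (ea x))
    rw [← h, eb.symm_apply_apply]
  rw [this]
  exact (RingHom.FinitePresentation.of_bijective eb.symm.bijective).comp
    (hf.comp (RingHom.FinitePresentation.of_bijective ea.bijective))

theorem Data.finite_conj {A₁ A₂ B₁ B₂ : Type u} [CommRing A₁] [CommRing A₂] [CommRing B₁] [CommRing B₂]
    (f : A₁ →+* B₁) (g : A₂ →+* B₂) (ea : A₂ ≃+* A₁) (eb : B₂ ≃+* B₁) (h : ∀ x, eb (g x) = f (ea x))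
    (hf : f.Finite) : g.Finite := by
  have : g = eb.symm.toRingHom.comp (f.comp ea.toRingHom) := RingHom.ext fun x => by
    show g x = eb.symm (f (ea x))
    rw [← h, eb.symm_apply_apply]
  rw [this]
  exact (RingHom.Finite.of_surjective _ eb.symm.surjective).comp
    (hf.comp (RingHom.Finite.of_surjective _ ea.surjective))

/-- The padded map from the free module. -/
noncomputable def Data.pα (i : ℕ) :
    letI : Module (d.PB i) (d.PM i) := Module.compHom (d.PM i) (d.pba i).toRingHom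
    (Fin (d.r i) → d.PB i) →ₗ[d.PB i] d.PM i :=
  letI : Module (d.PB i) (d.PM i) := Module.compHom (d.PM i) (d.pba i).toRingHom
  { toFun := fun v h => d.α ⟨i, h.down⟩ fun k => (v k).1 h
    map_add' := fun v w => funext fun h => (map_add (d.α ⟨i, h.down⟩) (fun k => (v k).1 h) (fun k => (w k).1 h))
    map_smul' := fun b v => funext fun h => d.α_smul ⟨i, h.down⟩ (b.1 h) (fun k => (v k).1 h) }

theorem Data.hpPB (i : ℕ) : (p.map (algebraMap R (d.PB i))).IsPrime := by
  by_cases h : i < d.n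
  · obtain ⟨j, rfl⟩ : ∃ j : Fin d.n, (j : ℕ) = i := ⟨⟨i, h⟩, rfl⟩
    have e : p.map (algebraMap R (d.PB j)) = (p.map (algebraMap R (d.B j))).map (d.eB j).symm.toRingEquiv.toRingHom := by
      rw [Ideal.map_map]
      congr 1
      exact RingHom.ext fun r => ((d.eB j).symm.commutes r).symm
    rw [e]
    haveI := d.hp j
    exact Ideal.map_isPrime_of_equiv (d.eB j).symm.toRingEquiv
  · have hb : Function.Bijective (algebraMap R (d.PB i)) := by
      refine ⟨fun a b hab => congrFun (congrArg Prod.snd hab) ⟨not_lt.1 h⟩, fun x => ⟨x.2 ⟨not_lt.1 h⟩, ?_⟩⟩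
      exact Prod.ext (funext fun h' => absurd h'.down h) (funext fun _ => rfl)
    exact Ideal.map_isPrime_of_equiv (RingEquiv.ofBijective _ hb)

set_option maxHeartbeats 2000000 in
/-- The complete dévissage of the data. -/
noncomputable def Data.toDev : FlatCA.CompleteDevissage R S N p := by
  letI bA : ∀ i, Algebra (d.PB i) (d.PA i) := fun i => (d.pba i).toRingHom.toAlgebra
  letI bA' : ∀ i, Algebra (d.PB i) (d.PA (i + 1)) := fun i => (d.pba' i).toRingHom.toAlgebra
  letI sA : Algebra S (d.PA 0) := d.psa.toRingHom.toAlgebra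
  haveI t1 : ∀ i, IsScalarTower R (d.PB i) (d.PA i) := fun i =>
    IsScalarTower.of_algebraMap_eq fun r => ((d.pba i).commutes r).symm
  haveI t2 : ∀ i, IsScalarTower R (d.PB i) (d.PA (i + 1)) := fun i =>
    IsScalarTower.of_algebraMap_eq fun r => ((d.pba' i).commutes r).symm
  haveI t3 : IsScalarTower R S (d.PA 0) := IsScalarTower.of_algebraMap_eq fun r => (d.psa.commutes r).symm
  letI mBM : ∀ i, Module (d.PB i) (d.PM i) := fun i => Module.compHom (d.PM i) (d.pba i).toRingHom
  haveI t4 : ∀ i, IsScalarTower (d.PB i) (d.PA i) (d.PM i) := fun i =>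
    IsScalarTower.of_algebraMap_smul fun _ _ => rfl
  letI mB'M : ∀ i, Module (d.PB i) (d.PM (i + 1)) := fun i => Module.compHom (d.PM (i + 1)) (d.pba' i).toRingHom
  haveI t5 : ∀ i, IsScalarTower (d.PB i) (d.PA (i + 1)) (d.PM (i + 1)) := fun i =>
    IsScalarTower.of_algebraMap_smul fun _ _ => rfl
  letI mRM : ∀ i, Module R (d.PM i) := fun i => Module.compHom (d.PM i) (algebraMap R (d.PA i))
  haveI t6 : ∀ i, IsScalarTower R (d.PB i) (d.PM i) := fun i =>
    IsScalarTower.of_algebraMap_smul fun r x => by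
      show d.pba i (algebraMap R (d.PB i) r) • x = algebraMap R (d.PA i) r • x
      rw [AlgHom.commutes]
  letI mSM : Module S (d.PM 0) := Module.compHom (d.PM 0) d.psa.toRingHom
  haveI t7 : IsScalarTower S (d.PA 0) (d.PM 0) := IsScalarTower.of_algebraMap_smul fun _ _ => rfl
  haveI hp := d.hpPB
  exact
    { n := d.n, pos := d.pos, A := d.PA, B := d.PB, M := d.PM, r := d.r
      hp := hp
      α := d.pα
      surjSA := fun x => by
        obtain ⟨s, hs⟩ := d.surjSA (x.1 ⟨d.pos⟩)
        exact ⟨s, (d.eA ⟨0, d.pos⟩).injective hs⟩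
      fpSA := RingHom.finitePresentation_algebraMap.1
        (Data.finitePresentation_conj d.sa.toRingHom d.psa.toRingHom (RingEquiv.refl S)
          (d.eA ⟨0, d.pos⟩).toRingEquiv (fun _ => rfl) d.fpSA)
      surjBA' := fun i h x => by
        obtain ⟨b, hb⟩ := d.surjBA' i h (x.1 ⟨h⟩)
        exact ⟨(fun _ => b, 0), (d.eA ⟨i + 1, h⟩).injective hb⟩
      fpBA' := fun i h => RingHom.finitePresentation_algebraMap.1
        (Data.finitePresentation_conj (d.ba' i h).toRingHom (d.pba' i).toRingHom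
          (d.eB ⟨i, Nat.lt_of_succ_lt h⟩).toRingEquiv (d.eA ⟨i + 1, h⟩).toRingEquiv (d.pba'_eq i h) (d.fpBA' i h))
      finiteBA := fun i h => RingHom.finite_algebraMap.1
        (Data.finite_conj (d.ba ⟨i, h⟩).toRingHom (d.pba i).toRingHom
          (d.eB ⟨i, h⟩).toRingEquiv (d.eA ⟨i, h⟩).toRingEquiv (d.pba_eq ⟨i, h⟩) (d.finiteBA ⟨i, h⟩))
      smooth := fun i h => by
        haveI := d.smooth ⟨i, h⟩
        exact Algebra.Smooth.of_equiv (d.eB ⟨i, h⟩).symm
      geomIrred := fun i h => by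
        haveI : GeometricallyIrreducible (Spec.map (CommRingCat.ofHom (algebraMap R (d.B ⟨i, h⟩)))) := d.geomIrred ⟨i, h⟩
        have e : CommRingCat.ofHom (algebraMap R (d.PB i)) =
            CommRingCat.ofHom (algebraMap R (d.B ⟨i, h⟩)) ≫ (d.eB ⟨i, h⟩).symm.toRingEquiv.toCommRingCatIso.hom :=
          CommRingCat.hom_ext (RingHom.ext fun r => ((d.eB ⟨i, h⟩).symm.commutes r).symm)
        show GeometricallyIrreducible _
        rw [e, Spec.map_comp]
        haveI : IsIso (Spec.map (d.eB ⟨i, h⟩).symm.toRingEquiv.toCommRingCatIso.hom) := inferInstance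
        exact (MorphismProperty.cancel_left_of_respectsIso @GeometricallyIrreducible _ _).2 ‹_›
      finiteM := fun i h => by
        obtain ⟨s, hs⟩ := (d.finiteM ⟨i, h⟩).fg_top
        classical
        refine ⟨⟨s.image (fun m _ => m), eq_top_iff.2 fun x _ => ?_⟩⟩
        haveI : RingHomSurjective (d.eA ⟨i, h⟩).symm.toRingEquiv.toRingHom := ⟨(d.eA ⟨i, h⟩).symm.surjective⟩
        let f : d.M ⟨i, h⟩ →ₛₗ[(d.eA ⟨i, h⟩).symm.toRingEquiv.toRingHom] d.PM i :=
          { toFun := fun m _ => m, map_add' := fun _ _ => rfl,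
            map_smul' := fun a m => funext fun _ =>
              (congrArg (· • m) ((d.eA ⟨i, h⟩).apply_symm_apply a)).symm }
        have hx : x ∈ (⊤ : Submodule (d.A ⟨i, h⟩) (d.M ⟨i, h⟩)).map f := ⟨x ⟨h⟩, trivial, rfl⟩
        rw [← hs, Submodule.map_span] at hx
        rw [Finset.coe_image]
        exact hx
      isoN := LinearEquiv.ofBijective
        ({ toFun := fun x _ => d.isoN x
           map_add' := fun x y => funext fun _ => map_add d.isoN x y
           map_smul' := fun s x => funext fun _ => d.isoN_smul s x } : N →ₗ[S] d.PM 0)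
        ⟨fun x y h => d.isoN_bij.1 (congrFun h ⟨d.pos⟩), fun x => by
          obtain ⟨y, hy⟩ := d.isoN_bij.2 (x ⟨d.pos⟩)
          exact ⟨y, funext fun _ => hy⟩⟩
      isoCoker := fun i h => by
        let c : d.PM i →ₗ[d.PB i] d.PM (i + 1) :=
          { toFun := fun x h' => d.coker i h'.down (x ⟨Nat.lt_of_succ_lt h'.down⟩)
            map_add' := fun x y => funext fun h' => map_add (d.coker i h'.down) _ _
            map_smul' := fun b x => funext fun h' => d.coker_smul i h'.down (b.1 ⟨Nat.lt_of_succ_lt h'.down⟩) _ }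
        have hc : Function.Surjective c := fun x => by
          obtain ⟨y, hy⟩ := d.coker_surj i h (x ⟨h⟩)
          exact ⟨fun _ => y, funext fun _ => hy⟩
        have hk : LinearMap.range (d.pα i) = LinearMap.ker c := by
          ext x
          constructor
          · rintro ⟨v, rfl⟩
            exact funext fun h' => (d.coker_ker i h'.down _).2 ⟨_, rfl⟩
          · intro hx
            obtain ⟨v, hv⟩ := (d.coker_ker i h (x ⟨Nat.lt_of_succ_lt h⟩)).1 (congrFun hx ⟨h⟩)
            exact ⟨fun k => (fun _ => v k, 0), funext fun _ => hv⟩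
        exact (Submodule.quotEquivOfEq _ _ hk).trans (c.quotKerEquivOfSurjective hc)
      fibreIso := fun i h => by
        haveI := d.hp ⟨i, h⟩
        letI : Module (d.B ⟨i, h⟩) (d.M ⟨i, h⟩) := Module.compHom _ (d.ba ⟨i, h⟩).toRingHom
        letI : Algebra (d.B ⟨i, h⟩) (d.PB i) := (d.eB ⟨i, h⟩).symm.toRingEquiv.toRingHom.toAlgebra
        letI : Module (d.B ⟨i, h⟩) (d.PM i) := Pi.module _ (fun h' : PLift.{0} (i < d.n) => d.M ⟨i, h'.down⟩) (d.B ⟨i, h⟩)
        haveI : IsScalarTower (d.B ⟨i, h⟩) (d.PB i) (d.PM i) := IsScalarTower.of_algebraMap_smul fun b x =>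
          funext fun h' => congrArg (fun z => d.ba ⟨i, h⟩ z • x h') ((d.eB ⟨i, h⟩).apply_symm_apply b)
        let l : d.M ⟨i, h⟩ →ₗ[d.B ⟨i, h⟩] d.PM i :=
          { toFun := fun m _ => m, map_add' := fun _ _ => rfl, map_smul' := fun _ _ => rfl }
        have hl : IsBaseChange (d.PB i) l := by
          let e : d.PB i ⊗[d.B ⟨i, h⟩] d.M ⟨i, h⟩ ≃ₗ[d.PB i] d.PM i := LinearEquiv.ofBijective
            (l.liftBaseChange (d.PB i)) (by
              let m : d.M ⟨i, h⟩ →ₗ[d.B ⟨i, h⟩] d.PB i ⊗[d.B ⟨i, h⟩] d.M ⟨i, h⟩ :=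
                TensorProduct.mk (d.B ⟨i, h⟩) (d.PB i) (d.M ⟨i, h⟩) 1
              have hm : Function.Surjective m := fun z => by
                induction z using TensorProduct.induction_on with
                | zero => exact ⟨0, map_zero m⟩
                | tmul b x =>
                  obtain ⟨b, rfl⟩ : ∃ b', algebraMap (d.B ⟨i, h⟩) (d.PB i) b' = b := (d.eB ⟨i, h⟩).symm.surjective b
                  exact ⟨b • x, by rw [map_smul, TensorProduct.mk_apply, TensorProduct.smul_tmul',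
                    ← Algebra.algebraMap_eq_smul_one]⟩
                | add a b ha hb =>
                  obtain ⟨a', rfl⟩ := ha
                  obtain ⟨b', rfl⟩ := hb
                  exact ⟨a' + b', map_add m a' b'⟩
              have key : ∀ x, l.liftBaseChange (d.PB i) (m x) = l x := fun x => by
                rw [TensorProduct.mk_apply, LinearMap.liftBaseChange_tmul, one_smul]
              refine ⟨fun a b hab => ?_, fun y => ⟨m (y ⟨h⟩), key _⟩⟩
              obtain ⟨a, rfl⟩ := hm a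
              obtain ⟨b, rfl⟩ := hm b
              rw [key, key] at hab
              rw [show a = b from congrFun hab ⟨h⟩])
          exact IsBaseChange.of_equiv e fun x => by
            show l.liftBaseChange (d.PB i) ((1 : d.PB i) ⊗ₜ x) = l x
            rw [LinearMap.liftBaseChange_tmul, one_smul]
        haveI := hp i
        haveI : (p.map (algebraMap R (d.PB i))).LiesOver (p.map (algebraMap R (d.B ⟨i, h⟩))) := ⟨by
          show _ = (p.map (algebraMap R (d.PB i))).comap (d.eB ⟨i, h⟩).symm.toRingEquiv.toRingHom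
          rw [show algebraMap R (d.PB i) = (d.eB ⟨i, h⟩).symm.toRingEquiv.toRingHom.comp (algebraMap R (d.B ⟨i, h⟩)) from
            RingHom.ext fun r => ((d.eB ⟨i, h⟩).symm.commutes r).symm, ← Ideal.map_map]
          exact (Ideal.comap_map_of_bijective _ (d.eB ⟨i, h⟩).symm.bijective).symm⟩
        exact bijective_baseChange_residueField l hl (d.r i) _ _ (fun v => funext fun _ =>
            congrArg (d.α ⟨i, h⟩) (funext fun k => (d.eB ⟨i, h⟩).apply_symm_apply (v k)))
          (p.map (algebraMap R (d.B ⟨i, h⟩))) (p.map (algebraMap R (d.PB i))) (d.fibreIso ⟨i, h⟩)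
      cokerLast := fun x => by
        obtain ⟨v, hv⟩ := d.cokerLast (x ⟨Nat.sub_one_lt_of_lt d.pos⟩)
        exact ⟨fun k => (fun _ => v k, 0), funext fun _ => hv⟩ }

end Groth.Agent.FlatDevPad
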